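import Groth.Agent.SiteBase.FreeMod
import Groth.Agent.SiteBase.Flasque
import Groth.Agent.EtLimLib.RestrSect
import Groth.Agent.S0101
import Mathlib.CategoryTheory.Sites.Equivalence
import Mathlib.Algebra.Category.ModuleCat.Sheaf.PushforwardContinuous

/-!
# Injective sheaves of modules on the small étale site are acyclic on étale schemes
-/

set_option autoImplicit false
set_option linter.style.haveILetI false
set_option linter.unusedSectionVars false
set_option backward.isDefEq.respectTransparency false
set_option backward.isDefEq.respectTransparency.types false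
set_option maxHeartbeats 1000000
set_option synthInstance.maxHeartbeats 400000

universe u

open CategoryTheory CategoryTheory.Limits AlgebraicGeometry Opposite Abelian

noncomputable section

namespace Groth.Agent.InjModLib

variable {X : Scheme.{u}}

variable (X) in
/-- A small category equivalent to the small étale site. -/
abbrev Cs : Type (u + 1) := AsSmall.{u + 1} X.Etale

variable (X) in
/-- The equivalence with the small étale site. -/
abbrev eqv : Cs X ≌ X.Etale := AsSmall.equiv.symm

variable (X) in
/-- The topology on the small model. -/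
abbrev Js : GrothendieckTopology (Cs X) := (eqv X).functor.restrictedTopology X.smallEtaleTopology

instance isDenseSubsite_functor : (eqv X).functor.IsDenseSubsite (Js X) X.smallEtaleTopology :=
  inferInstance

instance isDenseSubsite_inverse : (eqv X).inverse.IsDenseSubsite X.smallEtaleTopology (Js X) := by
  let e : X.Etale ≌ Cs X := AsSmall.equiv
  haveI : e.inverse.IsDenseSubsite (Js X) X.smallEtaleTopology := isDenseSubsite_functor
  rw [Equivalence.eq_inducedTopology_of_isDenseSubsite X.smallEtaleTopology (Js X) e]
  exact inferInstanceAs (e.functor.IsDenseSubsite _ _)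

variable (X) in
/-- Transport of abelian sheaves to the small model. -/
abbrev sh : EtCoh.Ab X ⥤ Sheaf (Js X) AddCommGrpCat.{u + 1} :=
  (eqv X).functor.sheafPushforwardContinuous AddCommGrpCat.{u + 1} (Js X) X.smallEtaleTopology

instance isEquivalence_sh : (sh X).IsEquivalence :=
  inferInstance

instance additive_sh : (sh X).Additive where

/-- Čech exactness on the small model. -/
def CE (F : EtCoh.Ab X) : Prop := SiteBase.CechExact ((sh X).obj F)

theorem CE.quotient {S : ShortComplex (EtCoh.Ab X)} (hS : S.ShortExact) [Injective S.X₂] (h : CE S.X₁) :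
    CE S.X₃ := by
  haveI : Injective (S.map (sh X)).X₂ := by
    haveI : (sh X).inv.PreservesMonomorphisms := inferInstance
    exact Injective.injective_of_adjoint (sh X).asEquivalence.symm.toAdjunction S.X₂
  exact SiteBase.cechExact_quotient (hS.map_of_exact (sh X)) h

theorem CE.surjective_app {S : ShortComplex (EtCoh.Ab X)} (hS : S.ShortExact) (h : CE S.X₁) (U : X.Etale) :
    Function.Surjective (S.g.hom.app (op U)) := by
  intro s
  let U' : Cs X := ⟨U⟩
  let P := S.map (sh X)
  obtain ⟨t, ht⟩ := SiteBase.ext_mk₀_lift (hS.map_of_exact (sh X)) (SiteBase.shYoneda (Js X) U')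
    (SiteBase.cechExact_subsingleton_one h _) ((SiteBase.freeShYonedaEquiv U' P.X₃).symm s)
  refine ⟨SiteBase.freeShYonedaEquiv U' P.X₂ t, ?_⟩
  have h1 := SiteBase.freeShYonedaEquiv_comp U' t P.g
  rw [ht, Equiv.apply_symm_apply] at h1
  exact h1.symm

/-- Čech exact sheaves are acyclic on étale schemes. -/
theorem CE.subsingleton_H (W : X.Etale) (n : ℕ) {F : EtCoh.Ab X} (h : CE F) :
    Subsingleton (EtCoh.H W.left ((EtLimLib.restrTo W).obj F) (n + 1)) := by
  induction n generalizing F with
  | zero =>
    let S : ShortComplex (EtCoh.Ab X) := ShortComplex.mk (Injective.ι F) (cokernel.π _) (cokernel.condition _)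
    have hS : S.ShortExact := { exact := ShortComplex.exact_cokernel (Injective.ι F), mono_f := Injective.ι_mono F }
    have hP := EtLimLib.shortExact_restrTo W hS
    haveI : Injective (S.map (EtLimLib.restrTo W)).X₂ := EtLimLib.injective_restrTo W _
    refine subsingleton_of_forall_eq 0 fun x => ?_
    obtain ⟨y, rfl⟩ := Ext.covariant_sequence_exact₁ _ hP x (Ext.eq_zero_of_injective _) (zero_add 1)
    let hT := EtCore.topIsTerminal W.left
    let q := Sheaf.H.equiv₀ (S.map (EtLimLib.restrTo W)).X₃ hT y
    let W₁ : X.Etale := (EtShriek.compEtale (EtLimLib.strMap W)).obj (EtCoh.top W.left)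
    obtain ⟨j, hj⟩ := CE.surjective_app hS h W₁ q
    have hy : y = Sheaf.H.map (S.map (EtLimLib.restrTo W)).g 0 ((Sheaf.H.equiv₀ _ hT).symm j) := by
      apply (Sheaf.H.equiv₀ (S.map (EtLimLib.restrTo W)).X₃ hT).injective
      refine Eq.trans ?_ (Sheaf.H.equiv₀_naturality hT (S.map (EtLimLib.restrTo W)).g _)
      rw [AddEquiv.apply_symm_apply]
      exact hj.symm
    rw [hy]
    show (Ext.comp _ (Ext.mk₀ _) (add_zero 0)).comp hP.extClass _ = 0
    rw [Ext.comp_assoc_of_second_deg_zero, hP.comp_extClass, Ext.comp_zero]
  | succ n ih =>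
    let S : ShortComplex (EtCoh.Ab X) := ShortComplex.mk (Injective.ι F) (cokernel.π _) (cokernel.condition _)
    have hS : S.ShortExact := { exact := ShortComplex.exact_cokernel (Injective.ι F), mono_f := Injective.ι_mono F }
    have hP := EtLimLib.shortExact_restrTo W hS
    haveI : Injective (S.map (EtLimLib.restrTo W)).X₂ := EtLimLib.injective_restrTo W _
    haveI : Subsingleton (EtCoh.H W.left (S.map (EtLimLib.restrTo W)).X₃ (n + 1)) := ih (CE.quotient hS h)
    refine subsingleton_of_forall_eq 0 fun x => ?_
    obtain ⟨y, rfl⟩ := Ext.covariant_sequence_exact₁ _ hP x (Ext.eq_zero_of_injective _) rfl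
    rw [Subsingleton.elim (α := EtCoh.H W.left (S.map (EtLimLib.restrTo W)).X₃ (n + 1)) y 0, Ext.zero_comp]

variable (R : Sheaf X.smallEtaleTopology RingCat.{u + 1})

/-- The transported sheaf of rings. -/
abbrev ringS : Sheaf (Js X) RingCat.{u + 1} :=
  ((eqv X).functor.sheafPushforwardContinuous RingCat.{u + 1} (Js X) X.smallEtaleTopology).obj R

/-- The equivalence of categories of modules. -/
def modEquiv : SheafOfModules.{u + 1} R ≌ SheafOfModules.{u + 1} (ringS R) :=
  SheafOfModules.pushforwardPushforwardEquivalence (eqv X) (𝟙 (ringS R))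
    ⟨{ app := fun U => 𝟙 (R.obj.obj U), naturality := fun U V i => by
        exact (Category.comp_id _).trans (Category.id_comp _).symm }⟩
    (by
      ext U : 2
      refine Eq.trans ?_ (Category.id_comp _).symm
      exact R.obj.map_id _)
    (by
      ext U : 2
      refine Eq.trans (Category.id_comp _) ((Category.id_comp _).trans ?_)
      exact R.obj.map_id _)

theorem ce_toSheaf_injective (I : SheafOfModules.{u + 1} R) [Injective I] :
    CE ((SheafOfModules.toSheaf R).obj I) := by
  haveI : Injective ((modEquiv R).functor.obj I) := by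
    haveI : (modEquiv R).inverse.PreservesMonomorphisms := inferInstance
    exact Injective.injective_of_adjoint (modEquiv R).symm.toAdjunction I
  exact SiteBase.cechExact_injective ((modEquiv R).functor.obj I)

/-- Injective sheaves of modules are acyclic on étale schemes. -/
theorem subsingleton_H_pull_injective (I : SheafOfModules.{u + 1} R) [Injective I] {W : Scheme.{u}}
    (j : W ⟶ X) [Etale j] (n : ℕ) :
    Subsingleton (EtCoh.H W ((EtCoh.pull j).obj ((SheafOfModules.toSheaf R).obj I)) (n + 1)) := by
  haveI : EtShriek.JCont j := EtJCont.jCont j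
  let e := (EtPtsLib.pullIsoRestr j).app ((SheafOfModules.toSheaf R).obj I)
  let e' := (EtCoh.HF W (n + 1)).mapIso e
  exact @Equiv.subsingleton _ _ e'.addCommGroupIsoToAddEquiv.toEquiv
    ((ce_toSheaf_injective R I).subsingleton_H (Scheme.Etale.mk j) n)

end Groth.Agent.InjModLib
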