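import Groth.Agent.S0646
import Groth.Agent.SmoothBCLib.PtAcyclic
import Groth.Agent.PairHens.Construction
import Mathlib.Algebra.Category.Ring.FilteredColimits
import Mathlib.CategoryTheory.Limits.Types.Filtered

/-!
# Vanishing of cohomology passes to filtered colimits of rings, and to henselizations of pairs
-/

set_option autoImplicit false
set_option linter.style.haveILetI false
set_option linter.unusedSectionVars false
set_option backward.isDefEq.respectTransparency false
set_option backward.isDefEq.respectTransparency.types false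
set_option maxHeartbeats 1000000

universe u

open CategoryTheory CategoryTheory.Limits AlgebraicGeometry Opposite

attribute [local instance] Groth.Agent.S0101.result

noncomputable section

namespace Groth.Agent.InjModLib

section Colim

variable {ι : Type u} [Preorder ι] [IsDirected ι (· ≤ ·)] [Nonempty ι] {G : ι ⥤ CommRingCat.{u}} (c : Cocone G)

/-- A cocone of rings is a colimit if every element comes from a stage and vanishes at one. -/
theorem nonempty_isColimit (hsurj : ∀ x : c.pt, ∃ i y, c.ι.app i y = x)
    (hinj : ∀ i (y : G.obj i), c.ι.app i y = 0 → ∃ (j : ι) (f : i ⟶ j), G.map f y = 0) :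
    Nonempty (IsColimit c) := by
  haveI : IsFiltered ι := inferInstance
  haveI : ReflectsColimitsOfShape ι (forget CommRingCat.{u}) := reflectsColimitsOfShape_of_reflectsIsomorphisms
  refine ⟨isColimitOfReflects (forget CommRingCat.{u}) (Types.FilteredColimit.isColimitOf _ _
    (fun x => ?_) fun i j a b h => ?_)⟩
  · obtain ⟨i, y, hy⟩ := hsurj x
    exact ⟨i, y, hy.symm⟩
  · obtain ⟨k, hik, hjk⟩ := exists_ge_ge i j
    let f := homOfLE hik
    let g := homOfLE hjk
    have hk : c.ι.app k (G.map f a - G.map g b) = 0 := by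
      rw [map_sub, ← CommRingCat.comp_apply, ← CommRingCat.comp_apply, c.w f, c.w g, sub_eq_zero]
      exact h
    obtain ⟨l, e, he⟩ := hinj k _ hk
    refine ⟨l, f ≫ e, g ≫ e, ?_⟩
    rw [map_sub, sub_eq_zero] at he
    show G.map (f ≫ e) a = G.map (g ≫ e) b
    rw [G.map_comp, G.map_comp, CommRingCat.comp_apply, CommRingCat.comp_apply, he]

/-- Vanishing passes to filtered colimits of rings. -/
theorem subsingleton_H_colim (hc : IsColimit c) {X : Scheme.{u}} (a : Spec c.pt ⟶ X)
    (t : ∀ i, Spec (G.obj i) ⟶ X) (ht : ∀ {i j : ι} (f : i ⟶ j), Spec.map (G.map f) ≫ t i = t j)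
    (hta : ∀ i, Spec.map (c.ι.app i) ≫ t i = a) (F : EtCoh.Ab X) (p : ℕ)
    (h : ∀ i, Subsingleton (EtCoh.H (Spec (G.obj i)) ((EtCoh.pull (t i)).obj F) p)) :
    Subsingleton (EtCoh.H (Spec c.pt) ((EtCoh.pull a).obj F) p) := by
  obtain ⟨i₀⟩ := ‹Nonempty ι›
  have hl : IsLimit (Scheme.Spec.mapCone c.op) := isLimitOfPreserves Scheme.Spec hc.op
  haveI : ∀ b, CompactSpace ↥((G.op ⋙ Scheme.Spec).obj b) := fun b =>
    inferInstanceAs (CompactSpace ↥(Spec (G.obj b.unop)))
  have key := Groth.Agent.S0646.result (G.op ⋙ Scheme.Spec)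
    (fun x y f => inferInstanceAs (IsAffineHom (Spec.map (G.map f.unop)))) (fun b => inferInstance)
    (fun b => inferInstanceAs (QuasiSeparatedSpace ↥(Spec (G.obj b.unop))))
    (Scheme.Spec.mapCone c.op) hl i₀ ((EtCoh.pull (t i₀)).obj F) p
  refine (SmoothBCLib.subsingleton_H_pull_pull (t i₀) (Spec.map (c.ι.app i₀)) a (hta i₀) F p).2 ?_
  refine subsingleton_of_forall_eq 0 fun x => ?_
  obtain ⟨j, hj, y, hy⟩ := key.1 x
  haveI : Subsingleton (EtCoh.H (Spec (G.obj j))
      ((EtCoh.pull ((G.op ⋙ Scheme.Spec).map (homOfLE hj).op)).obj ((EtCoh.pull (t i₀)).obj F)) p) :=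
    (SmoothBCLib.subsingleton_H_pull_pull (t i₀) (Spec.map (G.map (homOfLE hj))) (t j)
      (ht (homOfLE hj)) F p).1 (h j)
  rw [← hy]
  exact (congrArg _ (Subsingleton.elim (α := EtCoh.H (Spec (G.obj j)) _ p) y 0)).trans (map_zero _)

end Colim

open Groth.Agent.PairHens

variable {R : Type u} [CommRing R] {I : Ideal R}

/-- Elements invertible at the point, ordered by divisibility. -/
def Den (i : Idx R I) : Type u := {t : i.S // t ∈ i.T}

namespace Den

variable {i : Idx R I}

instance : Preorder (Den i) where
  le a b := a.1 ∣ b.1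
  le_refl a := dvd_refl a.1
  le_trans _ _ _ := dvd_trans

instance : Nonempty (Den i) := ⟨⟨1, one_mem _⟩⟩

instance : IsDirected (Den i) (· ≤ ·) :=
  ⟨fun a b => ⟨⟨a.1 * b.1, mul_mem a.2 b.2⟩, dvd_mul_right _ _, dvd_mul_left _ _⟩⟩

theorem isUnit_of_le {a b : Den i} (h : a ≤ b) : IsUnit (algebraMap i.S (Localization.Away b.1) a.1) := by
  obtain ⟨c, hc⟩ := h
  have := IsLocalization.Away.algebraMap_isUnit (S := Localization.Away b.1) b.1
  rw [(congrArg (algebraMap i.S (Localization.Away b.1)) hc).trans (map_mul _ _ _)] at this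
  exact isUnit_of_mul_isUnit_left this

/-- Transition maps. -/
def trans {a b : Den i} (h : a ≤ b) : Localization.Away a.1 →+* Localization.Away b.1 :=
  IsLocalization.Away.lift a.1 (isUnit_of_le h)

theorem trans_algebraMap {a b : Den i} (h : a ≤ b) (x : i.S) :
    trans h (algebraMap i.S (Localization.Away a.1) x) = algebraMap i.S (Localization.Away b.1) x :=
  IsLocalization.Away.lift_eq _ _ _

variable (i) in
/-- The diagram. -/
@[reducible] def sys : Den i ⥤ CommRingCat.{u} where
  obj a := CommRingCat.of (Localization.Away a.1)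
  map f := CommRingCat.ofHom (trans (leOfHom f))
  map_id a := CommRingCat.hom_ext (IsLocalization.ringHom_ext (Submonoid.powers a.1)
    (RingHom.ext fun x => trans_algebraMap (le_refl a) x))
  map_comp {a b c} f g := CommRingCat.hom_ext (IsLocalization.ringHom_ext (Submonoid.powers a.1)
    (RingHom.ext fun x => by
      show trans ((leOfHom f).trans (leOfHom g)) (algebraMap i.S (Localization.Away a.1) x) =
        trans (leOfHom g) (trans (leOfHom f) (algebraMap i.S (Localization.Away a.1) x))
      rw [trans_algebraMap, trans_algebraMap, trans_algebraMap]))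

/-- The map to the stage. -/
def toL (a : Den i) : Localization.Away a.1 →+* i.L :=
  IsLocalization.Away.lift a.1 (IsLocalization.map_units i.L (⟨a.1, a.2⟩ : i.T))

theorem toL_algebraMap (a : Den i) (x : i.S) :
    toL a (algebraMap i.S (Localization.Away a.1) x) = algebraMap i.S i.L x :=
  IsLocalization.Away.lift_eq _ _ _

variable (i) in
/-- The cocone. -/
@[reducible] def cocone : Cocone (sys i) where
  pt := CommRingCat.of i.L
  ι :=
    { app := fun a => CommRingCat.ofHom (toL a)
      naturality := fun a b f => CommRingCat.hom_ext (IsLocalization.ringHom_ext (Submonoid.powers a.1)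
        (RingHom.ext fun x => by
          show toL b (trans (leOfHom f) (algebraMap i.S (Localization.Away a.1) x)) = toL a (algebraMap i.S (Localization.Away a.1) x)
          rw [trans_algebraMap, toL_algebraMap, toL_algebraMap])) }

variable (i) in
theorem nonempty_isColimit_cocone : Nonempty (IsColimit (cocone i)) := by
  refine nonempty_isColimit _ (fun x => ?_) fun a y hy => ?_
  · obtain ⟨⟨r, s⟩, hs⟩ := IsLocalization.surj i.T x
    let a : Den i := ⟨s.1, s.2⟩
    refine ⟨a, algebraMap i.S _ r * IsLocalization.Away.invSelf s.1,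
      (IsLocalization.map_units i.L s).mul_left_cancel ?_⟩
    show algebraMap i.S i.L s * toL a _ = _
    rw [← toL_algebraMap a s.1, ← map_mul, mul_left_comm, IsLocalization.Away.mul_invSelf, mul_one,
      toL_algebraMap, toL_algebraMap, mul_comm]
    exact hs.symm
  · obtain ⟨⟨r, s⟩, hs⟩ := IsLocalization.surj (Submonoid.powers a.1) y
    have h0 : algebraMap i.S i.L r = 0 := by
      rw [← toL_algebraMap a r, ← hs, map_mul, show toL a y = 0 from hy, zero_mul]
    obtain ⟨t, ht⟩ := (IsLocalization.map_eq_zero_iff i.T i.L r).1 h0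
    let b : Den i := ⟨a.1 * t.1, mul_mem a.2 t.2⟩
    have hab : a ≤ b := dvd_mul_right _ _
    refine ⟨b, homOfLE hab, ?_⟩
    show trans hab y = 0
    have ht' : IsUnit (algebraMap i.S (Localization.Away b.1) t.1) :=
      isUnit_of_le (a := (⟨t.1, t.2⟩ : Den i)) (b := b) (dvd_mul_left _ _)
    refine ((IsLocalization.map_units (Localization.Away a.1) s).map (trans hab)).mul_left_eq_zero.1 ?_
    rw [← map_mul, hs, trans_algebraMap]
    refine ht'.mul_right_eq_zero.1 ?_
    rw [← map_mul, ht, map_zero]

end Den

variable (R I) in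
/-- The diagram of the stages of the henselization. -/
def idxSys : Idx R I ⥤ CommRingCat.{u} where
  obj i := CommRingCat.of i.L
  map f := CommRingCat.ofHom (tr _ _ (leOfHom f)).toRingHom
  map_id i := CommRingCat.hom_ext (RingHom.ext fun x => by
    show tr i i le_rfl x = x
    rw [← tr_eq le_rfl (AlgHom.id R _) rfl]; rfl)
  map_comp {i j k} f g := CommRingCat.hom_ext (RingHom.ext fun x => by
    show tr i k _ x = tr j k (leOfHom g) (tr i j (leOfHom f) x)
    rw [← tr_eq ((leOfHom f).trans (leOfHom g)) ((tr j k (leOfHom g)).comp (tr i j (leOfHom f)))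
      (by rw [← AlgHom.comp_assoc, ε_tr, ε_tr])]
    rfl)

variable (R I) in
/-- The cocone of the henselization. -/
def idxCocone : Cocone (idxSys R I) where
  pt := CommRingCat.of (Hz R I)
  ι :=
    { app := fun i => CommRingCat.ofHom (PairHens.ι i).toRingHom
      naturality := fun i j f => CommRingCat.hom_ext (RingHom.ext fun x => ι_tr i j (leOfHom f) x) }

variable (R I) in
theorem nonempty_isColimit_idxCocone : Nonempty (IsColimit (idxCocone R I)) :=
  nonempty_isColimit _ (fun x => exists_ι x) fun i y hy => by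
    obtain ⟨j, hij, hj⟩ := exists_lift_zero (i := i) (x := y) hy
    exact ⟨j, homOfLE hij, hj⟩

/-- Classes vanish on the henselization of a pair if they vanish on étale algebras. -/
theorem subsingleton_H_hz {X : Scheme.{u}} (j : Spec (CommRingCat.of R) ⟶ X) (F : EtCoh.Ab X) (p : ℕ)
    (h : ∀ (S : Type u) [CommRing S] [Algebra R S] [Algebra.Etale R S],
      Subsingleton (EtCoh.H (Spec (CommRingCat.of S))
        ((EtCoh.pull (Spec.map (CommRingCat.ofHom (algebraMap R S)) ≫ j)).obj F) p)) :
    Subsingleton (EtCoh.H (Spec (CommRingCat.of (Hz R I)))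
      ((EtCoh.pull (Spec.map (CommRingCat.ofHom (algebraMap R (Hz R I))) ≫ j)).obj F) p) := by
  obtain ⟨hc⟩ := nonempty_isColimit_idxCocone R I
  refine subsingleton_H_colim (idxCocone R I) hc _ (fun i => Spec.map (CommRingCat.ofHom (algebraMap R i.L)) ≫ j)
    (fun {i i'} f => ?_) (fun i => ?_) F p fun i => ?_
  · rw [← Category.assoc, ← Spec.map_comp]
    congr 2
    exact CommRingCat.hom_ext (tr i i' (leOfHom f)).comp_algebraMap
  · rw [← Category.assoc, ← Spec.map_comp]
    congr 2
    exact CommRingCat.hom_ext (PairHens.ι i).comp_algebraMap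
  obtain ⟨hd⟩ := Den.nonempty_isColimit_cocone i
  refine subsingleton_H_colim (Den.cocone i) hd _
    (fun a => Spec.map (CommRingCat.ofHom (algebraMap R (Localization.Away a.1))) ≫ j)
    (fun {a b} f => ?_) (fun a => ?_) F p fun a => ?_
  · rw [← Category.assoc, ← Spec.map_comp]
    congr 2
    refine CommRingCat.hom_ext (RingHom.ext fun r => ?_)
    show Den.trans (leOfHom f) (algebraMap R _ r) = algebraMap R _ r
    rw [IsScalarTower.algebraMap_apply R i.S (Localization.Away a.1), Den.trans_algebraMap,
      ← IsScalarTower.algebraMap_apply]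
  · rw [← Category.assoc, ← Spec.map_comp]
    congr 2
    refine CommRingCat.hom_ext (RingHom.ext fun r => ?_)
    show Den.toL a (algebraMap R _ r) = algebraMap R _ r
    rw [IsScalarTower.algebraMap_apply R i.S (Localization.Away a.1), Den.toL_algebraMap,
      ← IsScalarTower.algebraMap_apply]
  haveI : Algebra.Etale i.S (Localization.Away a.1) := Algebra.Etale.of_isLocalizationAway a.1
  haveI : Algebra.Etale R (Localization.Away a.1) := Algebra.Etale.comp R i.S _
  exact h (Localization.Away a.1)

end Groth.Agent.InjModLib
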