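import Groth.Agent.InjModLib.Acyclic
import Groth.Agent.InjModLib.Colim
import Groth.Agent.GabberPairLib.Main
import Mathlib.AlgebraicGeometry.Morphisms.ClosedImmersion
import Mathlib.RingTheory.RingHom.Etale

/-!
# Restriction of injective sheaves of modules to closed subschemes of affine schemes
-/

set_option autoImplicit false
set_option linter.style.haveILetI false
set_option linter.unusedSectionVars false
set_option backward.isDefEq.respectTransparency false
set_option backward.isDefEq.respectTransparency.types false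
set_option maxHeartbeats 1000000

universe u

open CategoryTheory CategoryTheory.Limits AlgebraicGeometry Opposite

attribute [local instance] Groth.Agent.S0101.result

noncomputable section

namespace Groth.Agent.InjModLib

variable {X : Scheme.{u}} (A : Sheaf X.smallEtaleTopology RingCat.{u + 1})

/-- Modules over a torsion sheaf of rings are torsion. -/
theorem isTorsion_toSheaf
    (hA : ∀ (U : X.Etale) (s : A.obj.obj (op U)) (x : U.left), ∃ (V : X.Etale) (g : V ⟶ U),
      (∃ v : V.left, g.left.base v = x) ∧ IsOfFinAddOrder (A.obj.map g.op s))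
    (M : SheafOfModules.{u + 1} A) : EtCoh.IsTorsion ((SheafOfModules.toSheaf A).obj M) := fun U s x => by
  obtain ⟨V, g, hv, hf⟩ := hA U 1 x
  refine ⟨V, g, hv, ?_⟩
  obtain ⟨n, hn, h0⟩ := isOfFinAddOrder_iff_nsmul_eq_zero.1 hf
  rw [map_one] at h0
  refine isOfFinAddOrder_iff_nsmul_eq_zero.2 ⟨n, hn, ?_⟩
  let t : M.val.obj (op V) := M.val.map g.op s
  show n • t = 0
  rw [show n • t = (n • (1 : A.obj.obj (op V))) • t by rw [smul_assoc, one_smul], h0, zero_smul]

variable (hA : ∀ (U : X.Etale) (s : A.obj.obj (op U)) (x : U.left), ∃ (V : X.Etale) (g : V ⟶ U),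
      (∃ v : V.left, g.left.base v = x) ∧ IsOfFinAddOrder (A.obj.map g.op s))
  (I : SheafOfModules.{u + 1} A) [Injective I]

include hA

/-- The affine case. -/
theorem subsingleton_H_quot {R : Type u} [CommRing R] (j : Spec (CommRingCat.of R) ⟶ X) [Etale j] (J : Ideal R)
    (n : ℕ) : Subsingleton (EtCoh.H (Spec (CommRingCat.of (R ⧸ J)))
      ((EtCoh.pull (Spec.map (CommRingCat.ofHom (Ideal.Quotient.mk J)) ≫ j)).obj
        ((SheafOfModules.toSheaf A).obj I)) (n + 1)) := by
  let F := (SheafOfModules.toSheaf A).obj I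
  let H := PairHens.Hz R J
  let J' : Ideal H := J.map (algebraMap R H)
  haveI : HenselianRing H J' := PairHens.henselian
  let φ := Spec.map (CommRingCat.ofHom (algebraMap R H))
  have h1 : Subsingleton (EtCoh.H (Spec (CommRingCat.of H)) ((EtCoh.pull (φ ≫ j)).obj F) (n + 1)) :=
    subsingleton_H_hz j F (n + 1) fun S _ _ _ => by
      haveI : Etale (Spec.map (CommRingCat.ofHom (algebraMap R S))) :=
        (HasRingHomProperty.Spec_iff (P := @Etale)).2 (RingHom.etale_algebraMap.2 inferInstance)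
      exact subsingleton_H_pull_injective A I (Spec.map (CommRingCat.ofHom (algebraMap R S)) ≫ j) n
  let q := GabberPairLib.quotMap H J'
  have hT : EtCoh.IsTorsion ((EtCoh.pull (φ ≫ j)).obj F) := PBCCons.isTorsion_pull _ (isTorsion_toSheaf A hA I)
  have h2 : Subsingleton (EtCoh.H (Spec (CommRingCat.of (H ⧸ J'))) ((EtCoh.pull (q ≫ φ ≫ j)).obj F) (n + 1)) :=
    (SmoothBCLib.subsingleton_H_pull_pull (φ ≫ j) q (q ≫ φ ≫ j) rfl F (n + 1)).2
      (haveI := h1; (GabberPairLib.bijective_Hpull H J' (n + 1) _ hT).2.subsingleton)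
  let ψ : H ⧸ J' →+* R ⧸ J := Ideal.Quotient.lift J' (PairHens.εH R J).toRingHom
    fun a ha => (PairHens.mem_map_iff a).1 ha
  have hψ : Function.Bijective ψ := by
    refine ⟨(injective_iff_map_eq_zero _).2 fun a ha => ?_, fun b => ?_⟩
    · obtain ⟨a, rfl⟩ := Ideal.Quotient.mk_surjective a
      exact Ideal.Quotient.eq_zero_iff_mem.2 ((PairHens.mem_map_iff a).2 ha)
    · obtain ⟨a, ha⟩ := PairHens.εH_surjective b
      exact ⟨Ideal.Quotient.mk J' a, ha⟩
  let k := Spec.map (CommRingCat.ofHom ψ)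
  haveI : IsIso (CommRingCat.ofHom ψ) := (RingEquiv.ofBijective ψ hψ).toCommRingCatIso.isIso_hom
  refine SmoothBCLib.subsingleton_H_pull_iso (q ≫ φ ≫ j) k _ ?_ F (n + 1) h2
  have e : k ≫ q ≫ φ = Spec.map (CommRingCat.ofHom (Ideal.Quotient.mk J)) := by
    show Spec.map _ ≫ Spec.map _ ≫ Spec.map _ = _
    rw [← Spec.map_comp, ← Spec.map_comp]
    congr 1
    exact CommRingCat.hom_ext (RingHom.ext fun r => (PairHens.εH R J).commutes r)
  rw [← e, Category.assoc, Category.assoc]

/-- Closed subschemes of affine étale schemes. -/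
theorem subsingleton_H_affine {U Z : Scheme.{u}} [IsAffine U] (j : U ⟶ X) [Etale j] (c : Z ⟶ U) [IsClosedImmersion c]
    (n : ℕ) : Subsingleton (EtCoh.H Z ((EtCoh.pull (c ≫ j)).obj ((SheafOfModules.toSheaf A).obj I)) (n + 1)) := by
  let c' : Z ⟶ Spec (CommRingCat.of Γ(U, ⊤)) := c ≫ U.isoSpec.hom
  haveI : IsClosedImmersion c' := inferInstanceAs (IsClosedImmersion (_ ≫ _))
  obtain ⟨J, e, he⟩ := IsClosedImmersion.Spec_iff.1 (show IsClosedImmersion c' from inferInstance)
  let j' : Spec (CommRingCat.of Γ(U, ⊤)) ⟶ X := U.isoSpec.inv ≫ j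
  haveI : Etale j' := inferInstanceAs (Etale (_ ≫ _))
  refine SmoothBCLib.subsingleton_H_pull_iso _ e.hom (c ≫ j) ?_ _ (n + 1) (subsingleton_H_quot A hA I j' J n)
  have he' : e.hom ≫ Spec.map (CommRingCat.ofHom (Ideal.Quotient.mk J)) = c' := he.symm
  rw [← Category.assoc, he']
  show (c ≫ U.isoSpec.hom) ≫ U.isoSpec.inv ≫ j = c ≫ j
  rw [Category.assoc, Iso.hom_inv_id_assoc]

end Groth.Agent.InjModLib
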