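import Groth.Agent.InjModLib.Affine
import Groth.Agent.OpenMVLib.Sequence

/-!
# Cohomological bound for restrictions of injective sheaves of modules
-/

set_option autoImplicit false
set_option linter.style.haveILetI false
set_option linter.unusedSectionVars false
set_option backward.isDefEq.respectTransparency false
set_option backward.isDefEq.respectTransparency.types false
set_option maxHeartbeats 1000000

universe u

open CategoryTheory CategoryTheory.Limits AlgebraicGeometry Opposite

attribute [local instance] Groth.Agent.S0101.result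

noncomputable section

namespace Groth.Agent.InjModLib

variable {X : Scheme.{u}} (A : Sheaf X.smallEtaleTopology RingCat.{u + 1})
  (hA : ∀ (U : X.Etale) (s : A.obj.obj (op U)) (x : U.left), ∃ (V : X.Etale) (g : V ⟶ U),
      (∃ v : V.left, g.left.base v = x) ∧ IsOfFinAddOrder (A.obj.map g.op s))
  (I : SheafOfModules.{u + 1} A) [Injective I]
  (hΔ : ∀ U V : X.Opens, IsAffineOpen U → IsAffineOpen V → IsAffineOpen (U ⊓ V))
  {Z : Scheme.{u}} (i : Z ⟶ X) [IsClosedImmersion i]

include hA

/-- An open of the closed subscheme inside an affine. -/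
theorem subsingleton_H_of_range {Z' : Scheme.{u}} (b : Z' ⟶ Z) [IsOpenImmersion b] (U : X.Opens) (hU : IsAffineOpen U)
    (hb : Set.range b = i ⁻¹' (U : Set X)) (n : ℕ) :
    Subsingleton (EtCoh.H Z' ((EtCoh.pull (b ≫ i)).obj ((SheafOfModules.toSheaf A).obj I)) (n + 1)) := by
  haveI : IsAffine U.toScheme := hU
  let p := pullback.fst i U.ι
  have hr : Set.range b = Set.range p := by
    rw [hb, IsOpenImmersion.range_pullbackFst, Scheme.Opens.opensRange_ι]; rfl
  let k := IsOpenImmersion.isoOfRangeEq b p hr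
  have hk : k.hom ≫ p = b := IsOpenImmersion.isoOfRangeEq_hom_fac b p hr
  let c := k.hom ≫ pullback.snd i U.ι
  haveI : IsClosedImmersion c := inferInstanceAs (IsClosedImmersion (_ ≫ _))
  have hc : c ≫ U.ι = b ≫ i := by rw [Category.assoc, ← pullback.condition, ← Category.assoc, hk]
  rw [← hc]
  exact subsingleton_H_affine A hA I U.ι c n

include hΔ

/-- Vanishing on the preimage of a union of affine opens. -/
theorem subsingleton_H_union (m : ℕ) : ∀ (W : Fin (m + 1) → X.Opens), (∀ k, IsAffineOpen (W k)) →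
    ∀ {Z' : Scheme.{u}} (b : Z' ⟶ Z) [IsOpenImmersion b], Set.range b = i ⁻¹' (⋃ k, (W k : Set X)) →
      ∀ q : ℕ, m < q → Subsingleton (EtCoh.H Z' ((EtCoh.pull (b ≫ i)).obj ((SheafOfModules.toSheaf A).obj I)) q) := by
  induction m with
  | zero =>
    intro W hW Z' b _ hb q hq
    obtain ⟨n, rfl⟩ : ∃ n, q = n + 1 := ⟨q - 1, by omega⟩
    refine subsingleton_H_of_range A hA I i b (W 0) (hW 0) (hb.trans ?_) n
    congr 1
    exact Set.ext fun x => ⟨fun h => by obtain ⟨k, hk⟩ := Set.mem_iUnion.1 h; rwa [Fin.fin_one_eq_zero k] at hk,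
      fun h => Set.mem_iUnion.2 ⟨0, h⟩⟩
  | succ m ih =>
    intro W hW Z' b _ hb q hq
    obtain ⟨r, rfl⟩ : ∃ r, q = r + 1 := ⟨q - 1, by omega⟩
    let F := (SheafOfModules.toSheaf A).obj I
    let f := b ≫ i
    let UA : X.Opens := W (Fin.last (m + 1))
    let WB : Fin (m + 1) → X.Opens := fun k => W k.castSucc
    let OA : Z'.Opens := f ⁻¹ᵁ UA
    let OB : Z'.Opens := f ⁻¹ᵁ (⨆ k, WB k)
    let OC : Z'.Opens := OA ⊓ OB
    haveI : EtShriek.JCont OA.ι := EtJCont.jCont _
    haveI : EtShriek.JCont OB.ι := EtJCont.jCont _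
    haveI : EtShriek.JCont OC.ι := EtJCont.jCont _
    have hmem : ∀ z : Z', ∃ k, f z ∈ W k := fun z => by
      have h : b z ∈ Set.range b := ⟨z, rfl⟩
      rw [hb] at h
      exact Set.mem_iUnion.1 h
    have hrange : ∀ (O : Z'.Opens) (V : Set X), (O : Set Z') = f ⁻¹' V → V ⊆ (⋃ k, (W k : Set X)) →
        Set.range (O.ι ≫ b) = i ⁻¹' V := fun O V hO hV => by
      ext z
      constructor
      · rintro ⟨w, rfl⟩
        have h : (w.1 : Z') ∈ (O : Set Z') := w.2
        rw [hO] at h
        exact h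
      · intro hz
        have h : z ∈ Set.range b := by rw [hb]; exact hV hz
        obtain ⟨z', rfl⟩ := h
        have h' : z' ∈ (O : Set Z') := by rw [hO]; exact hz
        exact ⟨⟨z', h'⟩, rfl⟩
    have hvan : ∀ (O : Z'.Opens) {m' : ℕ} (W' : Fin (m' + 1) → X.Opens)
        (_ : (O : Set Z') = f ⁻¹' (⋃ k, (W' k : Set X))) (_ : (⋃ k, (W' k : Set X)) ⊆ ⋃ k, (W k : Set X)) (q' : ℕ),
        (∀ {Z'' : Scheme.{u}} (b' : Z'' ⟶ Z) [IsOpenImmersion b'], Set.range b' = i ⁻¹' (⋃ k, (W' k : Set X)) →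
          Subsingleton (EtCoh.H Z'' ((EtCoh.pull (b' ≫ i)).obj F) q')) →
        Subsingleton (EtCoh.H O.toScheme ((EtCoh.pull O.ι).obj ((EtCoh.pull f).obj F)) q') :=
      fun O m' W' hO hsub q' h =>
        (SmoothBCLib.subsingleton_H_pull_pull f O.ι ((O.ι ≫ b) ≫ i) (Category.assoc _ _ _).symm F q').1
          (h (O.ι ≫ b) (hrange O _ hO hsub))
    have hA' : Subsingleton (EtCoh.H OA.toScheme ((EtCoh.pull OA.ι).obj ((EtCoh.pull f).obj F)) (r + 1)) :=
      hvan OA (fun _ : Fin (0 + 1) => UA) (by simp only [Set.iUnion_const]; rfl)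
        (Set.iUnion_subset fun _ => Set.subset_iUnion (fun k => (W k : Set X)) _) _
        fun b' _ hb' => subsingleton_H_of_range A hA I i b' UA (hW _) (by rw [hb', Set.iUnion_const]) r
    have hB' : Subsingleton (EtCoh.H OB.toScheme ((EtCoh.pull OB.ι).obj ((EtCoh.pull f).obj F)) (r + 1)) :=
      hvan OB WB (by simp only [OB, Scheme.Hom.coe_preimage, TopologicalSpace.Opens.coe_iSup])
        (Set.iUnion_subset fun k => Set.subset_iUnion (fun k => (W k : Set X)) k.castSucc) _
        fun b' _ hb' => ih WB (fun k => hW _) b' hb' _ (by omega)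
    have hC' : Subsingleton (EtCoh.H OC.toScheme ((EtCoh.pull OC.ι).obj ((EtCoh.pull f).obj F)) r) :=
      hvan OC (fun k => UA ⊓ WB k)
        (by
          simp only [OC, OA, OB, TopologicalSpace.Opens.coe_inf, Scheme.Hom.coe_preimage,
            TopologicalSpace.Opens.coe_iSup]
          rw [← Set.preimage_inter, Set.inter_iUnion])
        (Set.iUnion_subset fun k => Set.inter_subset_left.trans (Set.subset_iUnion (fun k => (W k : Set X)) _)) _
        fun b' _ hb' => ih (fun k => UA ⊓ WB k) (fun k => hΔ _ _ (hW _) (hW _)) b' hb' _ (by omega)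
    obtain ⟨δ, -, hker, -, -⟩ := OpenMVLib.exists_mayerVietoris OA.ι OB.ι OC.ι
      (Z'.homOfLE (inf_le_left : OC ≤ OA)) (Scheme.homOfLE_ι _ _) (Z'.homOfLE (inf_le_right : OC ≤ OB))
      (Scheme.homOfLE_ι _ _) ((EtCoh.pull f).obj F)
      (fun z => by
        rw [Scheme.Opens.range_ι, Scheme.Opens.range_ι]
        obtain ⟨k, hk⟩ := hmem z
        induction k using Fin.lastCases with
        | last => exact Or.inl hk
        | cast k => exact Or.inr (show f z ∈ ⨆ k, WB k from TopologicalSpace.Opens.mem_iSup.2 ⟨k, hk⟩))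
      (by rw [Scheme.Opens.range_ι, Scheme.Opens.range_ι, Scheme.Opens.range_ι]; exact le_rfl)
    refine subsingleton_of_forall_eq 0 fun x => ?_
    have hx : x ∈ (OpenMVLib.rmap OA.ι OB.ι ((EtCoh.pull f).obj F) (r + 1)).ker :=
      Prod.ext (hA'.elim _ _) (hB'.elim _ _)
    rw [hker r] at hx
    obtain ⟨c, rfl⟩ := hx
    rw [hC'.elim c 0, map_zero]

/-- The bound. -/
theorem subsingleton_H_injective (n : ℕ) (W : Fin (n + 1) → X.Opens) (hW : ∀ k, IsAffineOpen (W k))
    (hcov : ⨆ k, W k = ⊤) (q : ℕ) (hq : n < q) :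
    Subsingleton (EtCoh.H Z ((EtCoh.pull i).obj ((SheafOfModules.toSheaf A).obj I)) q) := by
  have h := subsingleton_H_union A hA I hΔ i n W hW (𝟙 Z) (by
    rw [show (⋃ k, (W k : Set X)) = Set.univ by
      rw [← TopologicalSpace.Opens.coe_iSup, hcov]; rfl]
    exact Set.range_id) q hq
  rwa [Category.id_comp] at h

end Groth.Agent.InjModLib
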